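import Mathlib
import Cfsg.Agent.Lib.Blocks.Star.Coef

/-!
# Descending to the centraliser of a central element of the defect group
-/

set_option linter.style.haveILetI false
set_option linter.unusedSectionVars false

namespace Cfsg.Agent.Blocks.CentralStep

open Cfsg.Agent.Blocks Cfsg.Agent.Characters Cfsg.Agent.Blocks.Star
open Cfsg.Agent.BlockCharsA Cfsg.Agent.BlockCharsA.BrauerPairs Cfsg.Agent.BlockCharsA.PairConj
open Cfsg.Agent.BlockCharsA.PairLocal Cfsg.Agent.BlockCharsA.PairFusion
open Cfsg.Agent.BlockCharsA.PairStab Cfsg.Agent.BlockCharsA.PairMax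
open Cfsg.Agent.BlockCharsA.PairReceptive Cfsg.Agent.BlockCharsA.Transport
open Cfsg.Agent.BlockCharsA.PairCorr
open MonoidAlgebra

universe u

variable {G : Type u} [Group G] [Finite G] {p : ℕ} {M : Ideal Cfsg.AlgInt}
  {B : Set (Cfsg.IrrCharacter G)} {P : Subgroup G}
  {e : Set (Cfsg.IrrCharacter (Subgroup.centralizer (P : Set G)))}

/-- The top inside the centraliser. -/
abbrev top' (P : Subgroup G) (z : G) : Subgroup (CU z) := P.subgroupOf (CU z)

theorem top_le (z : P) (hz : (z : G) ∈ Subgroup.centralizer (P : Set G)) : P ≤ CU (z : G) :=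
  fun x hx => mem_CU_of_commute (Subgroup.mem_centralizer_iff.1 hz x hx).symm

/-- A maximal pair of the block at a central element, with the same idempotent. -/
theorem exists_maximal_central (hM : Cfsg.IsPModular p M)
    (hmax : Cfsg.IsMaximalBrauerPair p M B P e) {z : P}
    (hz : (z : G) ∈ Subgroup.centralizer (P : Set G)) :
    ∃ a, Cfsg.IsMaximalBrauerPair p M (gAt p M e (z : G)) (top' P (z : G)) a ∧
      Match (⟨_, a⟩ : Cfsg.BrauerPairIdx (CU (z : G))) ⟨P, e⟩ := by
  classical
  haveI := fact_prime_of_pm hM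
  haveI := Fintype.ofFinite G
  obtain ⟨hle, hb, -⟩ := gAt_spec hM hmax z
  have hQP : Subgroup.zpowers (z : G) ≤ P := Subgroup.zpowers_le.2 z.2
  have hPH : P ≤ CU (z : G) := top_le z hz
  have hCH : Subgroup.centralizer (P : Set G) ≤ CU (z : G) := centralizer_le_centralizer hQP
  have hA : (top' P (z : G)).map (CU (z : G)).subtype = P := map_subgroupOf_eq hPH
  set σ := downEquiv hA hCH
  set a := Transport.pullSet σ e with ha
  have hap : Cfsg.IsBrauerPair p M (top' P (z : G)) a :=
    ⟨isPGroup_subgroupOf hmax.1.1.1 hPH, Transport.isPBlock_pullSet hM _ hmax.1.1.2⟩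
  have hm : Match (⟨_, a⟩ : Cfsg.BrauerPairIdx (CU (z : G))) ⟨P, e⟩ :=
    match_pull hA hCH _ _ fun d => Transport.blockCoeff_pullSet _ _ d
  have hn : Cfsg.IsNormalSubpair p M (Subgroup.zpowers (z : G)) (gAt p M e (z : G)) P e :=
    normal_of_subpairLE hM hle hmax.1.1 (hPH.trans (Subgroup.centralizer_le_normalizer _))
  have hpair : Cfsg.IsBrauerPairOf p M (gAt p M e (z : G)) (top' P (z : G)) a := by
    refine ⟨hap, hb, fun η hη => ?_⟩
    rw [brauerOmega_block]
    have h1 := hn.2.2.2.2.2 (Transport.irrIso σ η) hη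
    rw [brauerOmega_elF] at h1
    rw [Transport.omega_iso σ
      (z := br P (elF (CU (z : G)) (gAt p M e (z : G)))) fun d => by
      rw [br, br, coeff_restrEl, coeff_restrEl, coeff_blockIdem, coeff_self]
      rfl]
    exact h1
  refine ⟨a, ⟨hpair, fun R r hR hle' =>
    (eq_of_le_of_card_le (subpairLE_facts hM hle').1 ?_).symm⟩, hm⟩
  obtain ⟨R', r', hR', hle''⟩ := exists_maximal_above hM hR
  refine (Subgroup.card_le_of_le (subpairLE_facts hM hle'').1).trans (le_of_eq ?_)
  show Nat.card R' = Nat.card ↥(top' P (z : G))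
  rw [card_defectGroup hM hb (isDefectGroup_of_maximal hM hR'),
    blockDefect_of_central hM hmax hz hb hle, Nat.card_congr (Subgroup.subgroupOfEquivOfLe hPH).toEquiv,
    card_defectGroup hM hmax.1.2.1 (isDefectGroup_of_maximal hM hmax)]

/-- The named idempotents at an element with centraliser inside that of `z`, normalised by the
top, agree inside the centraliser. -/
theorem eps_down (hM : Cfsg.IsPModular p M) (hmax : Cfsg.IsMaximalBrauerPair p M B P e) {z : P}
    (hz : (z : G) ∈ Subgroup.centralizer (P : Set G))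
    {a : Set (Cfsg.IrrCharacter (Subgroup.centralizer (top' P (z : G) : Set (CU (z : G)))))}
    (ha : Cfsg.IsMaximalBrauerPair p M (gAt p M e (z : G)) (top' P (z : G)) a)
    (hm : Match (⟨_, a⟩ : Cfsg.BrauerPairIdx (CU (z : G))) ⟨P, e⟩) (v : P)
    (hvC : CU (v : G) ≤ CU (z : G))
    (hvN : P ≤ Subgroup.normalizer (Subgroup.zpowers (v : G) : Set G)) :
    ∀ t : CU (z : G),
      (eps p M a (⟨⟨(v : G), top_le z hz v.2⟩, v.2⟩ : top' P (z : G))).coeff t =
        (eps p M e v).coeff (t : G) := by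
  classical
  haveI := Fintype.ofFinite G
  set c : CU (z : G) := ⟨(v : G), top_le z hz v.2⟩ with hc
  set v' : top' P (z : G) := ⟨c, v.2⟩ with hv'
  obtain ⟨hle, hg, he⟩ := gAt_spec hM hmax v
  have hn : Cfsg.IsNormalSubpair p M (Subgroup.zpowers (v : G)) (gAt p M e (v : G)) P e :=
    normal_of_subpairLE hM hle hmax.1.1 hvN
  have hA : (Subgroup.zpowers c).map (CU (z : G)).subtype = Subgroup.zpowers (v : G) :=
    MonoidHom.map_zpowers _ c
  have hmem : ∀ y : CU (z : G), (y : G) ∈ Subgroup.zpowers (v : G) ↔ y ∈ Subgroup.zpowers c :=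
    fun y => by rw [← hA]; exact Subgroup.mem_map_iff_mem (CU (z : G)).subtype_injective
  have hnorm : ∀ x : CU (z : G), (x : G) ∈ P →
      x ∈ Subgroup.normalizer (Subgroup.zpowers c : Set (CU (z : G))) := fun x hxP => by
    rw [Subgroup.mem_normalizer_iff]
    intro y
    rw [← hmem, ← hmem]
    exact Subgroup.mem_normalizer_iff.1 (hvN hxP) (y : G)
  set g' := Transport.pullSet (downEquiv hA hvC) (gAt p M e (v : G))
  have hm' : Match (⟨_, g'⟩ : Cfsg.BrauerPairIdx (CU (z : G)))
      ⟨Subgroup.zpowers (v : G), gAt p M e (v : G)⟩ :=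
    match_pull hA hvC _ _ fun d => Transport.blockCoeff_pullSet _ _ d
  have hle' : Cfsg.SubpairLE p M (Subgroup.zpowers c) g' (top' P (z : G)) a := by
    refine Relation.ReflTransGen.single ⟨⟨ha.1.1.1.to_le (Subgroup.zpowers_le.2 v'.2),
      Transport.isPBlock_pullSet hM _ hg⟩, ha.1.1, Subgroup.zpowers_le.2 v'.2, ?_, ?_,
      fun η hη => ?_⟩
    · exact fun x hx => hnorm x hx
    · intro x hx
      have hxP : (x : G) ∈ P := hx
      have h1 := (stabilizes_iff_coeff
        (normalizer_le_normalizer_centralizer _ (hvN hxP))).1 (hn.2.2.2.2.1 _ hxP)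
      have hxN := hnorm x hxP
      refine (stabilizes_iff_coeff (normalizer_le_normalizer_centralizer _ hxN)).2 fun t => ?_
      rw [hm'.2.2, hm'.2.2]
      exact h1 _
    · rw [brauerOmega_elF, omega_match hm.1 hm.2.1 hm'.2.2]
      simp only [mem_of_match hM hm hm.1 hm.2.1] at hη
      have h1 := hn.2.2.2.2.2 _ hη
      rw [brauerOmega_elF] at h1
      exact h1
  intro t
  rw [eps_eq hM ha v' (g := g') hle', he]
  exact hm'.2.2 t

end Cfsg.Agent.Blocks.CentralStep
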