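import Mathlib
import Cfsg.Agent.Lib.Blocks.CentralStep.Local
import Cfsg.Agent.Lib.Blocks.Star.Nilpotent
import Cfsg.Agent.Lib.Blocks.Star.FreeLattice
import Cfsg.Agent.BlockCharsA.CyclicDefect.Parts

/-!
# Parts at elements above a central element with a nilpotent block

Every part of a class function at such an element is a fixed function times the value of a
generalized character of the defect group.
-/

set_option linter.style.haveILetI false
set_option linter.unusedSectionVars false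

namespace Cfsg.Agent.Blocks.CentralStep

open Cfsg.Agent.Blocks Cfsg.Agent.Characters Cfsg.Agent.Blocks.Star
open Cfsg.Agent.BlockCharsA Cfsg.Agent.BlockCharsA.BrauerPairs Cfsg.Agent.BlockCharsA.PairConj
open Cfsg.Agent.BlockCharsA.PairFusion Cfsg.Agent.BlockCharsA.PairReceptive
open Cfsg.Agent.BlockCharsA.PairStab
open MonoidAlgebra
open scoped ComplexConjugate

universe u

variable {G : Type u} [Group G] [Finite G] {p : ℕ}

theorem regAt_down {H : Subgroup G} {v : H} {s : G} (hs : s ∈ regAt p (v : G)) (hsH : s ∈ H) :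
    (⟨s, hsH⟩ : H) ∈ regAt p v := by
  obtain ⟨h1, h2⟩ := mem_regAt.1 hs
  exact mem_regAt.2 ⟨Subtype.ext h1.eq, by rwa [Subgroup.orderOf_mk]⟩

theorem sum_regAt_down {H : Subgroup G} (v : H) (hv : CU (v : G) ≤ H) (F : G → ℂ) :
    ∑ s ∈ regAt p (v : G), F s = ∑ s ∈ regAt p v, F (s : G) := by
  classical
  symm
  refine Finset.sum_bij (fun s _ => (s : G)) (fun s hs => ?_) (fun _ _ _ _ e => Subtype.ext e)
    (fun s hs => ?_) fun _ _ => rfl
  · obtain ⟨h1, h2⟩ := mem_regAt.1 hs
    exact mem_regAt.2 ⟨h1.map H.subtype, by rwa [Subgroup.orderOf_coe]⟩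
  · exact ⟨⟨s, hv (mem_CU_of_commute (mem_regAt.1 hs).1)⟩, regAt_down hs _, rfl⟩

/-- A part supported in a subgroup is a part of the restriction. -/
theorem th_down {H : Subgroup G} (f : G → ℂ) (v s : H) {ε : MonoidAlgebra ℂ G}
    (hε : ∀ g ∉ H, ε.coeff g = 0) :
    th f (v : G) ε (s : G) = th (fun c : H => f c) v (restrEl H ε) s := by
  rw [th, th]
  conv_lhs => rw [← inclEl_restrEl hε, show single ((v : G) * (s : G)) (1 : ℂ) =
    inclEl H (single (v * s) 1) by simp [inclEl]]
  rw [← map_mul, CyclicDefect.evalChar_inclEl]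

/-- The part is linear. -/
theorem th_linear {ι : Type*} (t : Finset ι) (a : ι → ℂ) (F : ι → G → ℂ) (u : G)
    (ε : MonoidAlgebra ℂ G) (s : G) :
    th (fun g => ∑ i ∈ t, a i * F i g) u ε s = ∑ i ∈ t, a i * th (F i) u ε s := by
  haveI := Fintype.ofFinite G
  simp only [th, evalChar_eq_sum, Finset.mul_sum]
  rw [Finset.sum_comm]
  exact Finset.sum_congr rfl fun i _ => Finset.sum_congr rfl fun g _ => by ring

variable {M : Ideal Cfsg.AlgInt} {B : Set (Cfsg.IrrCharacter G)} {P : Subgroup G}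
  {e : Set (Cfsg.IrrCharacter (Subgroup.centralizer (P : Set G)))}

variable (p M e) in
/-- The nilpotent block at a central element of the top, with its characters. -/
structure Loc (z : P) where
  cen : (z : G) ∈ Subgroup.centralizer (P : Set G)
  a : Set (Cfsg.IrrCharacter (Subgroup.centralizer (top' P (z : G) : Set (CU (z : G)))))
  max : Cfsg.IsMaximalBrauerPair p M (gAt p M e (z : G)) (top' P (z : G)) a
  mat : Match (⟨_, a⟩ : Cfsg.BrauerPairIdx (CU (z : G))) ⟨P, e⟩
  nil : Cfsg.IsNilpotentBlock p M (gAt p M e (z : G))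
  χ₀ : Cfsg.IrrCharacter (CU (z : G))
  mem₀ : χ₀ ∈ gAt p M e (z : G)
  h₀ : Cfsg.blockHeight p (gAt p M e (z : G)) (χ₀ : CU (z : G) → ℂ) = 0
  norm₀ : ∀ v : top' P (z : G), (Nat.card (top' P (z : G)) : ℂ) *
    pairing p (χ₀ : CU (z : G) → ℂ) (χ₀ : CU (z : G) → ℂ) (v : CU (z : G)) (eps p M a v) =
      (nb p M a v : ℂ)
  Φ : Cfsg.IrrCharacter (top' P (z : G)) ≃ gAt p M e (z : G)
  val : ∀ (hM : Cfsg.IsPModular p M) (ζ : Cfsg.IrrCharacter (top' P (z : G))),
    (((Φ ζ : gAt p M e (z : G)) : Cfsg.IrrCharacter (CU (z : G))) : CU (z : G) → ℂ) =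
      star hM (wt p M a (ζ : top' P (z : G) → ℂ)) (χ₀ : CU (z : G) → ℂ)
  height : ∀ ζ : Cfsg.IrrCharacter (top' P (z : G)),
    Cfsg.blockHeight p (gAt p M e (z : G))
      (((Φ ζ : gAt p M e (z : G)) : Cfsg.IrrCharacter (CU (z : G))) : CU (z : G) → ℂ) =
      (Cfsg.charDegree (ζ : top' P (z : G) → ℂ)).factorization p

theorem exists_loc (hM : Cfsg.IsPModular p M) (hmax : Cfsg.IsMaximalBrauerPair p M B P e) {z : P}
    (hz : (z : G) ∈ Subgroup.centralizer (P : Set G))
    (hnil : Cfsg.IsNilpotentBlock p M (gAt p M e (z : G))) : Nonempty (Loc p M e z) := by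
  classical
  haveI := Fintype.ofFinite (CU (z : G))
  haveI := Fintype.ofFinite (top' P (z : G))
  obtain ⟨a, ha, hm⟩ := exists_maximal_central hM hmax hz
  obtain ⟨χ₀, hχ₀, h0, hn, Φ, hΦ⟩ := exists_bijection_full hM hnil ha
  exact ⟨⟨hz, a, ha, hm, hnil, χ₀, hχ₀, h0, hn, Φ, fun _ ζ => (hΦ ζ).1, fun ζ => (hΦ ζ).2.1⟩⟩

variable {z : P}

/-- An element of the top inside the centraliser. -/
def Loc.up (L : Loc p M e z) (v : P) : top' P (z : G) := ⟨⟨(v : G), top_le z L.cen v.2⟩, v.2⟩

/-- The elements at which parts factor. -/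
def Good (z v : P) : Prop :=
  CU (v : G) ≤ CU (z : G) ∧ P ≤ Subgroup.normalizer (Subgroup.zpowers (v : G) : Set G)

variable (L : Loc p M e z)

theorem good_self (hz : (z : G) ∈ Subgroup.centralizer (P : Set G)) : Good z z :=
  ⟨le_rfl, (top_le z hz).trans (Subgroup.centralizer_le_normalizer _)⟩

/-- The coordinate of a class function on the centraliser. -/
noncomputable def Loc.coord [Fintype (CU (z : G))]
    [Fintype (Cfsg.IrrCharacter (top' P (z : G)))] (f : CU (z : G) → ℂ) (v : P) : ℂ :=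
  ∑ ζ : Cfsg.IrrCharacter (top' P (z : G)),
    Cfsg.classInner f (((L.Φ ζ : gAt p M e (z : G)) : Cfsg.IrrCharacter (CU (z : G))) :
      CU (z : G) → ℂ) * (ζ : top' P (z : G) → ℂ) (L.up v)

/-- The common factor of the parts. -/
noncomputable def Loc.base (v : P) (s : CU (z : G)) : ℂ :=
  th (L.χ₀ : CU (z : G) → ℂ) (L.up v : CU (z : G)) (eps p M L.a (L.up v)) s

/-- The part of a class function of the centraliser. -/
theorem Loc.th_eq_coord (hM : Cfsg.IsPModular p M) [Fintype (CU (z : G))]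
    [Fintype (Cfsg.IrrCharacter (top' P (z : G)))] {f : CU (z : G) → ℂ}
    (hf : Cfsg.IsClassFunction (CU (z : G)) f) (v : P) {s : CU (z : G)}
    (hs : s ∈ regAt p (L.up v : CU (z : G))) :
    th f (L.up v : CU (z : G)) (eps p M L.a (L.up v)) s = L.coord f v * L.base v s := by
  classical
  haveI := Fintype.ofFinite (Cfsg.IrrCharacter (CU (z : G)))
  haveI := Fintype.ofFinite (gAt p M e (z : G))
  obtain ⟨gv, hgv, hgB, heps⟩ := eps_spec hM L.max (L.up v)
  have hpv := (block_of_subpairLE hM (B := gAt p M e (z : G)) hgv).2 L.max.1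
  have hout : ∀ θ : Cfsg.IrrCharacter (CU (z : G)), θ ∉ gAt p M e (z : G) →
      th (θ : CU (z : G) → ℂ) (L.up v : CU (z : G)) (eps p M L.a (L.up v)) s = 0 := by
    intro θ hθ
    rw [heps]
    refine th_eq_zero hM (isPBlock_blockOf M θ) (mem_blockOf_self hM θ)
      (orderOf_top hM L.max (L.up v)) hgB (fun h => hθ ?_) hs
    rw [brauerPairOf_unique hM hpv h]
    exact mem_blockOf_self hM θ
  have hexp : f = fun g => ∑ θ : Cfsg.IrrCharacter (CU (z : G)),
      Cfsg.classInner f (θ : CU (z : G) → ℂ) * (θ : CU (z : G) → ℂ) g := by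
    funext g
    conv_lhs => rw [classFun_eq_sum hf]
    simp [Finset.sum_apply]
  conv_lhs => rw [hexp, th_linear]
  rw [← Finset.sum_subset (Finset.subset_univ (Finset.univ.filter fun θ => θ ∈ gAt p M e (z : G)))
    fun θ _ hθ => by rw [hout θ fun h => hθ (Finset.mem_filter.2 ⟨Finset.mem_univ _, h⟩), mul_zero],
    Finset.sum_subtype (p := fun θ => θ ∈ gAt p M e (z : G)) _ (fun θ => by simp)
      (fun θ => Cfsg.classInner f (θ : CU (z : G) → ℂ) *
        th (θ : CU (z : G) → ℂ) (L.up v : CU (z : G)) (eps p M L.a (L.up v)) s),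
    Loc.coord, Finset.sum_mul]
  refine (Fintype.sum_equiv L.Φ _ _ fun ζ => ?_).symm
  have hst : Stable p M L.a (ζ : top' P (z : G) → ℂ) :=
    stable_of_nilpotent hM L.nil L.max (irr_isClassFunction ζ)
  have hstar := L.val hM ζ
  rw [hstar, th_star hM (irr_isClassFunction L.χ₀)
    (isClassFunction_star_stable hM hst (irr_isClassFunction L.χ₀)) (orderOf_top hM L.max _)
    (eps_mem_BI hM L.max _) hs, hat_self hM L.max hst, Loc.base]
  ring

/-- The named idempotent upstairs and downstairs. -/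
theorem Loc.restr_eps (hM : Cfsg.IsPModular p M) (hmax : Cfsg.IsMaximalBrauerPair p M B P e)
    {v : P} (hv : Good z v) :
    restrEl (CU (z : G)) (eps p M e v) = eps p M L.a (L.up v) :=
  el_ext fun t => by
    rw [coeff_restrEl]
    exact (eps_down hM hmax L.cen L.max L.mat v hv.1 hv.2 t).symm

theorem eps_supp (hM : Cfsg.IsPModular p M) (hmax : Cfsg.IsMaximalBrauerPair p M B P e) {v : P}
    {g : G} (hg : g ∉ CU (v : G)) : (eps p M e v).coeff g = 0 := by
  obtain ⟨f, -, -, he⟩ := eps_spec hM hmax v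
  rw [he, elF, coeff_inclEl_notMem _ _ hg]

/-- The part of a class function of the group. -/
theorem Loc.th_eq (hM : Cfsg.IsPModular p M) (hmax : Cfsg.IsMaximalBrauerPair p M B P e)
    [Fintype (CU (z : G))] [Fintype (Cfsg.IrrCharacter (top' P (z : G)))] {f : G → ℂ}
    (hf : Cfsg.IsClassFunction G f) {v : P} (hv : Good z v) {s : CU (z : G)}
    (hs : (s : G) ∈ regAt p (v : G)) :
    th f (v : G) (eps p M e v) (s : G) =
      L.coord (fun c : CU (z : G) => f c) v * L.base v s := by
  rw [← L.th_eq_coord hM (f := fun c : CU (z : G) => f c) (fun c a => hf c a) v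
    (regAt_down (v := (L.up v : CU (z : G))) hs s.2), ← L.restr_eps hM hmax hv]
  exact th_down f (L.up v : CU (z : G)) s fun g hg => eps_supp hM hmax fun h => hg (hv.1 h)

variable (p M e) in
/-- The number of ways of carrying the named pair at `v` to a named pair inside the
centraliser of `z`. -/
noncomputable def nbIn (z v : P) : ℕ :=
  Nat.card {y : G // y ∈ CU (z : G) ∧
    ∃ w : P, (w : G) = y * (v : G) * y⁻¹ ∧ cjE y (eps p M e v) = eps p M e w}

/-- The norm of the common factor. -/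
theorem Loc.base_norm (hM : Cfsg.IsPModular p M) (hmax : Cfsg.IsMaximalBrauerPair p M B P e)
    {v : P} (hv : Good z v)
    (hcl : ∀ w : P, ∀ y ∈ CU (z : G), (w : G) = y * (v : G) * y⁻¹ → Good z w) :
    (Nat.card P : ℂ) * ∑ s ∈ regAt p (L.up v : CU (z : G)), L.base v s * conj (L.base v s) =
      (nbIn p M e z v : ℂ) := by
  classical
  have h := L.norm₀ (L.up v)
  have hPC : P ≤ CU (z : G) := top_le z L.cen
  rw [Nat.card_congr (Subgroup.subgroupOfEquivOfLe hPC).toEquiv] at h
  refine h.trans ?_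
  congr 1
  have hiff : ∀ (y : CU (z : G)) (w : P), (w : G) = (y : G) * (v : G) * (y : G)⁻¹ →
      (cjE y (eps p M L.a (L.up v)) = eps p M L.a (L.up w) ↔
        cjE (y : G) (eps p M e v) = eps p M e w) := by
    intro y w hw
    have hwg := hcl w y y.2 hw
    rw [← L.restr_eps hM hmax hv, ← L.restr_eps hM hmax hwg]
    constructor
    · intro h
      refine el_ext fun t => ?_
      rw [coeff_cjE]
      by_cases ht : t ∈ CU (z : G)
      · have h1 := congrArg (fun x : MonoidAlgebra ℂ (CU (z : G)) => x.coeff ⟨t, ht⟩) h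
        simpa [coeff_cjE, coeff_restrEl] using h1
      · rw [eps_supp hM hmax fun h' => ht (hwg.1 h'), eps_supp hM hmax]
        intro h'
        refine ht ?_
        have h2 := (CU (z : G)).mul_mem ((CU (z : G)).mul_mem y.2 (hv.1 h'))
          ((CU (z : G)).inv_mem y.2)
        simpa [mul_assoc] using h2
    · intro h
      refine el_ext fun t => ?_
      rw [coeff_cjE, coeff_restrEl, coeff_restrEl, ← h, coeff_cjE]
      simp
  refine Nat.card_congr
    { toFun := fun y => ⟨((y : CU (z : G)) : G), (y : CU (z : G)).2, ?_⟩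
      invFun := fun y => ⟨⟨(y : G), y.2.1⟩, ?_⟩
      left_inv := fun y => rfl
      right_inv := fun y => rfl }
  · obtain ⟨w, hw, hwe⟩ := y.2
    set w₀ : P := ⟨((w : CU (z : G)) : G), w.2⟩ with hw₀
    have hwv : (w₀ : G) = ((y : CU (z : G)) : G) * (v : G) * ((y : CU (z : G)) : G)⁻¹ :=
      congrArg Subtype.val hw
    exact ⟨w₀, hwv, (hiff y w₀ hwv).1 hwe⟩
  · obtain ⟨w, hw, hwe⟩ := y.2.2
    exact ⟨L.up w, Subtype.ext hw, (hiff ⟨(y : G), y.2.1⟩ w hw).2 hwe⟩

theorem nbIn_pos (z v : P) : 0 < nbIn p M e z v :=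
  Nat.card_pos_iff.2 ⟨⟨⟨1, one_mem _, v, by simp, cjE_one _⟩⟩, inferInstance⟩

/-- At `z` itself the whole centraliser fixes the pair. -/
theorem nbIn_self (hM : Cfsg.IsPModular p M) (hmax : Cfsg.IsMaximalBrauerPair p M B P e) :
    nbIn p M e z z = Nat.card (CU (z : G)) := by
  refine Nat.card_congr (Equiv.subtypeEquivRight fun y => ⟨fun h => h.1, fun hy => ⟨hy, z, ?_, ?_⟩⟩)
  · rw [← (commute_of_mem_CU hy).eq, mul_inv_cancel_right]
  · exact cjE_eq_self (invBy_BI (eps_mem_BI hM hmax z)) hy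

theorem base_ne_zero (hM : Cfsg.IsPModular p M) (hmax : Cfsg.IsMaximalBrauerPair p M B P e)
    {v : P} (hv : Good z v)
    (hcl : ∀ w : P, ∀ y ∈ CU (z : G), (w : G) = y * (v : G) * y⁻¹ → Good z w) :
    ∃ s ∈ regAt p (L.up v : CU (z : G)), L.base v s ≠ 0 := by
  by_contra hcon
  push Not at hcon
  have h := L.base_norm hM hmax hv hcl
  rw [Finset.sum_eq_zero fun s hs => by rw [hcon s hs, zero_mul], mul_zero] at h
  exact (Nat.cast_ne_zero.2 (nbIn_pos z v).ne') h.symm

/-- The pairing of two class functions of the group. -/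
theorem Loc.pairing_eq (hM : Cfsg.IsPModular p M) (hmax : Cfsg.IsMaximalBrauerPair p M B P e)
    [Fintype (CU (z : G))] [Fintype (Cfsg.IrrCharacter (top' P (z : G)))] {f f' : G → ℂ}
    (hf : Cfsg.IsClassFunction G f) (hf' : Cfsg.IsClassFunction G f') {v : P} (hv : Good z v)
    (hcl : ∀ w : P, ∀ y ∈ CU (z : G), (w : G) = y * (v : G) * y⁻¹ → Good z w) :
    (Nat.card P : ℂ) * pairing p f f' (v : G) (eps p M e v) =
      L.coord (fun c : CU (z : G) => f c) v * conj (L.coord (fun c : CU (z : G) => f' c) v) *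
        (nbIn p M e z v : ℂ) := by
  have hs : ∀ s ∈ regAt p (L.up v : CU (z : G)), (s : G) ∈ regAt p (v : G) := fun s hs => by
    obtain ⟨h1, h2⟩ := mem_regAt.1 hs
    exact mem_regAt.2 ⟨h1.map (CU (z : G)).subtype, by rwa [Subgroup.orderOf_coe]⟩
  rw [← L.base_norm hM hmax hv hcl, pairing,
    show regAt p (v : G) = regAt p (((L.up v : CU (z : G))) : G) from rfl,
    sum_regAt_down (L.up v : CU (z : G)) hv.1]
  rw [Finset.mul_sum, Finset.mul_sum, Finset.mul_sum]
  refine Finset.sum_congr rfl fun s hsm => ?_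
  show (Nat.card P : ℂ) * (th f (v : G) (eps p M e v) (s : G) *
    conj (th f' (v : G) (eps p M e v) (s : G))) = _
  rw [L.th_eq hM hmax hf hv (hs s hsm), L.th_eq hM hmax hf' hv (hs s hsm), map_mul]
  ring

/-- The coordinate is a generalized character of the defect group. -/
theorem Loc.isGen_coord [Fintype (CU (z : G))] [Fintype (Cfsg.IrrCharacter (top' P (z : G)))]
    {f : CU (z : G) → ℂ} (hf : Cfsg.IsGeneralizedCharacter (CU (z : G)) f) :
    Cfsg.IsGeneralizedCharacter P (L.coord f) := by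
  classical
  have hcI := fun ζ : Cfsg.IrrCharacter (top' P (z : G)) => classInner_gen_int hf
    (isGen_of_isCharacter (irr_isCharacter
      ((L.Φ ζ : gAt p M e (z : G)) : Cfsg.IrrCharacter (CU (z : G)))))
  choose n hn using hcI
  have e1 : L.coord f = fun v : P => ∑ ζ : Cfsg.IrrCharacter (top' P (z : G)),
      (n ζ : ℂ) * ((ζ : top' P (z : G) → ℂ) (L.up v)) := funext fun v => by
    simp only [Loc.coord, hn]
  rw [e1]
  exact isGen_comp (G := top' P (z : G))
    (θ := fun w => ∑ ζ : Cfsg.IrrCharacter (top' P (z : G)), (n ζ : ℂ) * (ζ : top' P (z : G) → ℂ) w)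
    { toFun := L.up, map_one' := rfl, map_mul' := fun _ _ => rfl }
    (by
      convert isGen_sum Finset.univ
        (fun ζ : Cfsg.IrrCharacter (top' P (z : G)) => (fun _ => ((n ζ : ℤ) : ℂ)) *
          (ζ : top' P (z : G) → ℂ)) (fun ζ _ => isGen_mul (isGen_const (n ζ))
          (isGen_of_isCharacter (irr_isCharacter ζ))) using 1
      funext w
      simp [Finset.sum_apply])

end Cfsg.Agent.Blocks.CentralStep
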