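import Mathlib
import Cfsg.Agent.Lib.Blocks.Star.FreeLattice
import Cfsg.Agent.Lib.Blocks.Star.Unit

/-!
# The class functions of the block living on one class of pairs

For `v` in the top, `star` of the indicator of the class of the pair at `v` gives class functions
of the block, orthogonal for different classes and killed at the regular elements when `v ≠ 1`.
-/

set_option linter.style.haveILetI false
set_option linter.unusedSectionVars false

namespace Cfsg.Agent.Blocks.CentralStep

open Cfsg.Agent.Blocks Cfsg.Agent.Characters Cfsg.Agent.Blocks.Star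
open Cfsg.Agent.BlockCharsA.BrauerPairs Cfsg.Agent.BlockCharsA.PairConj
open MonoidAlgebra
open scoped ComplexConjugate

universe u

variable {G : Type u} [Group G] [Finite G] {p : ℕ} {M : Ideal Cfsg.AlgInt}
  {B : Set (Cfsg.IrrCharacter G)} {P : Subgroup G}
  {e : Set (Cfsg.IrrCharacter (Subgroup.centralizer (P : Set G)))}

variable (p M e) in
/-- The named pairs at `v` and at `w` are conjugate. -/
def Fused (v w : P) : Prop :=
  ∃ x : G, (w : G) = x * (v : G) * x⁻¹ ∧ cjE x (eps p M e v) = eps p M e w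

theorem fused_refl (v : P) : Fused p M e v v := ⟨1, by simp, cjE_one _⟩

theorem Fused.symm {v w : P} (h : Fused p M e v w) : Fused p M e w v := by
  obtain ⟨x, hx, hε⟩ := h
  exact ⟨x⁻¹, by rw [hx]; group, by rw [← hε, cjE_cjE, inv_mul_cancel, cjE_one]⟩

theorem Fused.trans {v w t : P} (h : Fused p M e v w) (h' : Fused p M e w t) :
    Fused p M e v t := by
  obtain ⟨x, hx, hε⟩ := h
  obtain ⟨y, hy, hε'⟩ := h'
  exact ⟨y * x, by rw [hy, hx]; group, by rw [← cjE_cjE, hε, hε']⟩

theorem Fused.ne_one {v w : P} (h : Fused p M e v w) (hv : v ≠ 1) : w ≠ 1 := by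
  rintro rfl
  obtain ⟨x, hx, -⟩ := h
  refine hv (Subtype.ext ?_)
  have : x * (v : G) * x⁻¹ = 1 := by rw [← hx]; rfl
  simpa using this

open scoped Classical in
variable (p M e) in
/-- The indicator of the class of the pair at `v`. -/
noncomputable def etaF (v w : P) : ℂ := if Fused p M e v w then 1 else 0

theorem stable_etaF (v : P) : Stable p M e (etaF p M e v) := by
  intro u w x hx hε
  classical
  have h : Fused p M e u w := ⟨x, hx, hε⟩
  exact if_congr ⟨fun h' => h'.trans h, fun h' => h'.trans h.symm⟩ rfl rfl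

variable [Fintype G]

/-- The pairing over the class, weighted by the numbers of carriers. -/
theorem sum_class (hM : Cfsg.IsPModular p M) (hmax : Cfsg.IsMaximalBrauerPair p M B P e)
    [Fintype P] {f f' : G → ℂ} (hf : Cfsg.IsClassFunction G f)
    (hf' : Cfsg.IsClassFunction G f') (v : P) :
    ∑ w : P, etaF p M e v w * (pairing p f f' (w : G) (eps p M e w) / (nb p M e w : ℂ)) =
      pairing p f f' (v : G) (eps p M e v) / (Nat.card (CU (v : G)) : ℂ) := by
  classical
  set T := Finset.univ.filter fun w => Fused p M e v w with hT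
  have hcar : Nat.card {y : G // ∃ w : P, (w : G) = y * (v : G) * y⁻¹ ∧
      cjE y (eps p M e v) = eps p M e w} = T.card * Nat.card (CU (v : G)) := by
    have hx : ∀ w : T, ∃ x : G, ((w : P) : G) = x * (v : G) * x⁻¹ ∧
        cjE x (eps p M e v) = eps p M e (w : P) := fun w => (Finset.mem_filter.1 w.2).2
    choose x hx using hx
    rw [← Fintype.card_coe, ← Nat.card_eq_fintype_card, ← Nat.card_prod]
    refine (Nat.card_congr (Equiv.ofBijective (fun a : T × CU (v : G) =>
      (⟨x a.1 * (a.2 : G), (a.1 : P), ?_, ?_⟩ : {y : G // ∃ w : P, (w : G) = y * (v : G) * y⁻¹ ∧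
        cjE y (eps p M e v) = eps p M e w})) ⟨?_, ?_⟩)).symm
    · rw [(hx a.1).1]
      have hc := (commute_of_mem_CU a.2.2).eq
      rw [show x a.1 * (a.2 : G) * (v : G) * (x a.1 * (a.2 : G))⁻¹ =
        x a.1 * ((a.2 : G) * (v : G)) * (a.2 : G)⁻¹ * (x a.1)⁻¹ by group, ← hc]
      group
    · rw [← cjE_cjE, cjE_eq_self (invBy_BI (eps_mem_BI hM hmax v)) a.2.2, (hx a.1).2]
    · rintro ⟨w, c⟩ ⟨w', c'⟩ heq
      have h : x w * (c : G) = x w' * (c' : G) := congrArg Subtype.val heq
      have key : ∀ (w : T) (c : CU (v : G)),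
          ((w : P) : G) = x w * (c : G) * (v : G) * (x w * (c : G))⁻¹ := fun w c => by
        rw [(hx w).1, show x w * (c : G) * (v : G) * (x w * (c : G))⁻¹ =
          x w * ((c : G) * (v : G)) * (c : G)⁻¹ * (x w)⁻¹ by group,
          ← (commute_of_mem_CU c.2).eq]
        group
      have hw : w = w' := Subtype.ext (Subtype.ext (by rw [key w c, h, ← key w' c']))
      subst hw
      exact Prod.ext rfl (Subtype.ext (mul_left_cancel h))
    · rintro ⟨y, w, hw, hwe⟩
      have hwT : w ∈ T := Finset.mem_filter.2 ⟨Finset.mem_univ _, y, hw, hwe⟩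
      have hc : (x ⟨w, hwT⟩)⁻¹ * y ∈ CU (v : G) := by
        refine mem_CU_of_commute ?_
        have h1 := (hx ⟨w, hwT⟩).1
        simp only [] at h1
        rw [hw] at h1
        show (v : G) * ((x ⟨w, hwT⟩)⁻¹ * y) = (x ⟨w, hwT⟩)⁻¹ * y * (v : G)
        calc (v : G) * ((x ⟨w, hwT⟩)⁻¹ * y)
            = (x ⟨w, hwT⟩)⁻¹ * (x ⟨w, hwT⟩ * (v : G) * (x ⟨w, hwT⟩)⁻¹) * y := by group
          _ = (x ⟨w, hwT⟩)⁻¹ * (y * (v : G) * y⁻¹) * y := by rw [← h1]
          _ = _ := by group
      exact ⟨(⟨w, hwT⟩, ⟨_, hc⟩), Subtype.ext (by simp)⟩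
  have hterm : ∀ w ∈ T, pairing p f f' (w : G) (eps p M e w) / (nb p M e w : ℂ) =
      pairing p f f' (v : G) (eps p M e v) / ((T.card * Nat.card (CU (v : G)) : ℕ) : ℂ) := by
    intro w hw
    obtain ⟨x, hx, hε⟩ := (Finset.mem_filter.1 hw).2
    rw [hx, ← hε, pairing_conj hf hf']
    congr 2
    refine (Eq.trans ?_ hcar)
    refine Nat.card_congr ((Equiv.mulRight x).subtypeEquiv fun y => ?_)
    refine exists_congr fun t => ?_
    rw [Equiv.coe_mulRight, ← hε, cjE_cjE, hx]
    refine and_congr_left fun _ => ?_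
    rw [show y * (x * (v : G) * x⁻¹) * y⁻¹ = y * x * (v : G) * (y * x)⁻¹ by group]
  simp only [etaF, ite_mul, one_mul, zero_mul, ← Finset.sum_filter]
  rw [← hT, Finset.sum_congr rfl hterm, Finset.sum_const, nsmul_eq_mul]
  have hT0 : (T.card : ℂ) ≠ 0 := Nat.cast_ne_zero.2
    (Finset.card_ne_zero_of_mem (a := v) (Finset.mem_filter.2 ⟨Finset.mem_univ _, fused_refl v⟩))
  push_cast
  field_simp

variable (p M e) in
/-- The class function of the block on the class of `v`, made from `f`. -/
noncomputable def theta (hM : Cfsg.IsPModular p M) (v : P) (f : G → ℂ) : G → ℂ :=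
  star hM (wt p M e (etaF p M e v)) f

variable (p) in
/-- The normalised pairing at a named pair. -/
noncomputable def wgt (M : Ideal Cfsg.AlgInt)
    (e : Set (Cfsg.IrrCharacter (Subgroup.centralizer (P : Set G)))) (f f' : G → ℂ) (v : P) : ℂ :=
  pairing p f f' (v : G) (eps p M e v) / (Nat.card (CU (v : G)) : ℂ)

/-- The coefficient at a member of the block. -/
theorem classInner_theta (hM : Cfsg.IsPModular p M) (hmax : Cfsg.IsMaximalBrauerPair p M B P e)
    {f : G → ℂ} (hf : Cfsg.IsClassFunction G f) (v : P) {χ : Cfsg.IrrCharacter G} (hχ : χ ∈ B) :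
    Cfsg.classInner (theta p M e hM v f) (χ : G → ℂ) = wgt p M e f (χ : G → ℂ) v := by
  haveI := Fintype.ofFinite P
  conv_lhs => rw [← star_one hM hmax hχ, theta]
  rw [classInner_star_top hM hmax (stable_etaF v) (stable_const 1) hf (irr_isClassFunction χ)]
  simp only [map_one, mul_one]
  exact sum_class hM hmax hf (irr_isClassFunction χ) v

open scoped Classical in
/-- The products of these class functions. -/
theorem classInner_theta_theta (hM : Cfsg.IsPModular p M)
    (hmax : Cfsg.IsMaximalBrauerPair p M B P e) {f f' : G → ℂ} (hf : Cfsg.IsClassFunction G f)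
    (hf' : Cfsg.IsClassFunction G f') (v w : P) :
    Cfsg.classInner (theta p M e hM v f) (theta p M e hM w f') =
      if Fused p M e v w then wgt p M e f f' v else 0 := by
  haveI := Fintype.ofFinite P
  rw [theta, theta, classInner_star_top hM hmax (stable_etaF v) (stable_etaF w) hf hf']
  split_ifs with h
  · rw [wgt, ← sum_class hM hmax hf hf' v]
    refine Finset.sum_congr rfl fun u _ => ?_
    simp only [etaF]
    by_cases hu : Fused p M e v u
    · rw [if_pos hu, if_pos (h.symm.trans hu), map_one, mul_one]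
    · simp [hu]
  · refine Finset.sum_eq_zero fun u _ => ?_
    simp only [etaF]
    by_cases hu : Fused p M e v u
    · have hw : ¬ Fused p M e w u := fun hw => h (hu.trans hw.symm)
      simp [hw]
    · simp [hu]

open scoped Classical in
/-- The columns are orthogonal. -/
theorem column_orth (hM : Cfsg.IsPModular p M) (hmax : Cfsg.IsMaximalBrauerPair p M B P e)
    [Fintype (Cfsg.IrrCharacter G)] {f f' : G → ℂ} (hf : Cfsg.IsClassFunction G f)
    (hf' : Cfsg.IsClassFunction G f') (v w : P) :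
    ∑ χ ∈ Finset.univ.filter (fun χ => χ ∈ B),
      wgt p M e f (χ : G → ℂ) v * conj (wgt p M e f' (χ : G → ℂ) w) =
      if Fused p M e v w then wgt p M e f f' v else 0 := by
  rw [← classInner_theta_theta hM hmax hf hf' v w,
    classInner_eq_sum (theta p M e hM w f')
      (f := theta p M e hM v f) (isClassFunction_star_stable hM (stable_etaF v) hf)]
  refine (Finset.sum_congr rfl fun χ hχ => ?_).trans
    (Finset.sum_subset (Finset.subset_univ _) fun χ _ hχ => ?_)
  · rw [← classInner_theta hM hmax hf v (Finset.mem_filter.1 hχ).2,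
      ← classInner_theta hM hmax hf' w (Finset.mem_filter.1 hχ).2,
      classInner_conj_symm (theta p M e hM w f')]
  · rw [show Cfsg.classInner (theta p M e hM v f) (χ : G → ℂ) = 0 from
      classInner_star_outside hM hmax _ hf fun h => hχ (Finset.mem_filter.2 ⟨Finset.mem_univ _, h⟩),
      zero_mul]

open scoped Classical in
/-- Away from one the columns are orthogonal to the values at regular elements. -/
theorem column_regular (hM : Cfsg.IsPModular p M) (hmax : Cfsg.IsMaximalBrauerPair p M B P e)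
    [Fintype (Cfsg.IrrCharacter G)] {f : Cfsg.IrrCharacter G} (hf : f ∈ B) {v : P} (hv : v ≠ 1)
    {s : G} (hs : ¬ p ∣ orderOf s) :
    ∑ χ ∈ Finset.univ.filter (fun χ => χ ∈ B),
      wgt p M e (f : G → ℂ) (χ : G → ℂ) v * (χ : G → ℂ) s = 0 := by
  have h := congrFun (classFun_eq_sum (f := theta p M e hM v (f : G → ℂ))
    (isClassFunction_star_stable hM (stable_etaF v) (irr_isClassFunction f))) s
  rw [show theta p M e hM v (f : G → ℂ) s = etaF p M e v 1 * (f : G → ℂ) s from
    star_regular hM hmax (stable_etaF v) hf hs, etaF,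
    if_neg fun h => (h.ne_one hv) rfl, zero_mul, Finset.sum_apply] at h
  refine Eq.trans ?_ h.symm
  refine (Finset.sum_congr rfl fun χ hχ => ?_).trans
    (Finset.sum_subset (Finset.subset_univ _) fun χ _ hχ => ?_)
  · rw [Pi.smul_apply, smul_eq_mul, classInner_theta hM hmax (irr_isClassFunction f) v
      (Finset.mem_filter.1 hχ).2]
  · rw [Pi.smul_apply, show Cfsg.classInner (theta p M e hM v (f : G → ℂ)) (χ : G → ℂ) = 0 from
      classInner_star_outside hM hmax _ (irr_isClassFunction f)
        fun h => hχ (Finset.mem_filter.2 ⟨Finset.mem_univ _, h⟩), zero_smul]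

/-- A height-zero character has a non-zero column entry at every element of the top. -/
theorem wgt_self_ne_zero (hM : Cfsg.IsPModular p M) (hmax : Cfsg.IsMaximalBrauerPair p M B P e)
    {χ : Cfsg.IrrCharacter G} (hχ : χ ∈ B) (h0 : Cfsg.blockHeight p B (χ : G → ℂ) = 0) (v : P) :
    wgt p M e (χ : G → ℂ) (χ : G → ℂ) v ≠ 0 := by
  obtain ⟨g, hg, -, he⟩ := eps_spec hM hmax v
  obtain ⟨s, hs, hne⟩ := exists_th_ne_zero hM (orderOf_top hM hmax v)
    ((block_of_subpairLE hM hg).2 hmax.1) hχ h0
  refine div_ne_zero ?_ (Nat.cast_ne_zero.2 Nat.card_pos.ne')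
  rw [pairing_self, Ne, Complex.ofReal_eq_zero]
  refine (Finset.sum_pos' (fun _ _ => sq_nonneg _) ⟨s, hs, ?_⟩).ne'
  rw [he]
  exact pow_pos (norm_pos_iff.2 hne) 2

/-- Pairwise unfused elements different from one bound the rank. -/
theorem rank_add_le (hM : Cfsg.IsPModular p M) (hmax : Cfsg.IsMaximalBrauerPair p M B P e)
    {ι : Type*} [Fintype ι] (v : ι → P) (hv : ∀ i, v i ≠ 1)
    (hne : ∀ i j, i ≠ j → ¬ Fused p M e (v i) (v j)) :
    Cfsg.blockRank p B + Fintype.card ι ≤ Nat.card B := by
  classical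
  haveI := Fintype.ofFinite (Cfsg.IrrCharacter G)
  haveI := Fintype.ofFinite B
  obtain ⟨χ₁, hχ₁, h10⟩ := exists_height_zero hM hmax.1.2.1
  let T : (B → ℂ) →ₗ[ℂ] (G → ℂ) :=
    { toFun := fun c => ∑ χ : B, c χ • Cfsg.pRegularPart p ((χ : Cfsg.IrrCharacter G) : G → ℂ)
      map_add' := fun c c' => by simp [add_smul, Finset.sum_add_distrib]
      map_smul' := fun a c => by simp [Finset.smul_sum, smul_smul] }
  set w : ι → B → ℂ := fun i χ =>
    wgt p M e (χ₁ : G → ℂ) ((χ : Cfsg.IrrCharacter G) : G → ℂ) (v i) with hw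
  have hker : ∀ i, T (w i) = 0 := fun i => funext fun s => by
    show (∑ χ : B, w i χ • Cfsg.pRegularPart p ((χ : Cfsg.IrrCharacter G) : G → ℂ)) s = 0
    simp only [Finset.sum_apply, Pi.smul_apply, smul_eq_mul, Cfsg.pRegularPart]
    by_cases hs : Cfsg.IsPRegular p s
    · simp only [if_pos hs, hw]
      rw [← Finset.sum_subtype (Finset.univ.filter fun χ => χ ∈ B) (fun χ => by simp)
        (fun χ : Cfsg.IrrCharacter G => wgt p M e (χ₁ : G → ℂ) (χ : G → ℂ) (v i) * (χ : G → ℂ) s)]
      exact column_regular hM hmax hχ₁ (hv i) hs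
    · simp [if_neg hs]
  have horth : ∀ i j, ∑ χ : B, w i χ * conj (w j χ) =
      if i = j then wgt p M e (χ₁ : G → ℂ) (χ₁ : G → ℂ) (v i) else 0 := fun i j => by
    simp only [hw]
    rw [← Finset.sum_subtype (Finset.univ.filter fun χ => χ ∈ B) (fun χ => by simp)
      (fun χ : Cfsg.IrrCharacter G => wgt p M e (χ₁ : G → ℂ) (χ : G → ℂ) (v i) *
        conj (wgt p M e (χ₁ : G → ℂ) (χ : G → ℂ) (v j))),
      column_orth hM hmax (irr_isClassFunction χ₁) (irr_isClassFunction χ₁)]
    by_cases h : i = j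
    · subst h; rw [if_pos (fused_refl _), if_pos rfl]
    · rw [if_neg (hne i j h), if_neg h]
  have hli : LinearIndependent ℂ w := by
    rw [Fintype.linearIndependent_iff]
    intro c hc j
    have h1 : ∑ χ : B, (∑ i, c i • w i) χ * conj (w j χ) = 0 := by rw [hc]; simp
    simp only [Finset.sum_apply, Pi.smul_apply, smul_eq_mul, Finset.sum_mul, mul_assoc] at h1
    rw [Finset.sum_comm] at h1
    simp only [← Finset.mul_sum, horth, mul_ite, mul_zero, Finset.sum_ite_eq', Finset.mem_univ,
      if_true] at h1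
    exact (mul_eq_zero.1 h1).resolve_right (wgt_self_ne_zero hM hmax hχ₁ h10 _)
  have hle : Fintype.card ι ≤ Module.finrank ℂ (LinearMap.ker T) := by
    have hli' : LinearIndependent ℂ fun i => (⟨w i, hker i⟩ : LinearMap.ker T) :=
      LinearIndependent.of_comp (LinearMap.ker T).subtype hli
    exact hli'.fintype_card_le_finrank
  have hrange : LinearMap.range T = Submodule.span ℂ
      ((fun χ : Cfsg.IrrCharacter G => Cfsg.pRegularPart p (χ : G → ℂ)) '' B) := by
    refine le_antisymm ?_ (Submodule.span_le.2 ?_)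
    · rintro _ ⟨c, rfl⟩
      show (∑ χ : B, c χ • Cfsg.pRegularPart p ((χ : Cfsg.IrrCharacter G) : G → ℂ)) ∈ _
      exact Submodule.sum_mem _ fun χ _ => Submodule.smul_mem _ _
        (Submodule.subset_span ⟨_, χ.2, rfl⟩)
    · rintro _ ⟨χ, hχ, rfl⟩
      refine ⟨Pi.single ⟨χ, hχ⟩ 1, ?_⟩
      show (∑ ψ : B, (Pi.single (⟨χ, hχ⟩ : B) (1 : ℂ) : B → ℂ) ψ •
        Cfsg.pRegularPart p ((ψ : Cfsg.IrrCharacter G) : G → ℂ)) = _
      rw [Finset.sum_eq_single (⟨χ, hχ⟩ : B) (fun b _ hb => by simp [Pi.single_eq_of_ne hb])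
        (fun h => absurd (Finset.mem_univ _) h)]
      simp
  have h := LinearMap.finrank_range_add_finrank_ker T
  rw [hrange, Module.finrank_fintype_fun_eq_card, ← Nat.card_eq_fintype_card] at h
  rw [Cfsg.blockRank]
  omega

/-- The rank of a block is positive. -/
theorem one_le_blockRank (hM : Cfsg.IsPModular p M) (hB : Cfsg.IsPBlock M B) :
    1 ≤ Cfsg.blockRank p B := by
  obtain ⟨χ, hχ⟩ := block_nonempty hM hB
  rw [Cfsg.blockRank, Submodule.one_le_finrank_iff]
  intro h
  have h1 : Cfsg.pRegularPart p (χ : G → ℂ) = 0 :=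
    (Submodule.mem_bot ℂ).1 (h ▸ Submodule.subset_span ⟨χ, hχ, rfl⟩)
  have h2 := congrFun h1 1
  rw [Cfsg.pRegularPart, if_pos (by simp [Cfsg.IsPRegular, hM.1.ne_one])] at h2
  exact irr_one_ne_zero χ.2 h2

end Cfsg.Agent.Blocks.CentralStep
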